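import Cfsg.Agent.H533.Wf.Aut
import Cfsg.Agent.SignalizersComponents.QsBasic

/-!
# S3826: images of quasisimple groups are `QS`
-/

set_option autoImplicit false

namespace Cfsg.Agent.H774.Wf

universe u v

open Subgroup Cfsg Cfsg.Agent.H533.Wf

theorem qs_range {X : Type u} {K : Type v} [Group X] [Group K] (hX : IsQuasisimple X) (f : X →* K)
    (hf : f.range ≠ ⊥) : QS f.range := by
  have hperf : ⁅(⊤ : Subgroup X), ⊤⁆ = ⊤ := hX.1.commutator_eq_top
  refine ⟨?_, hf, ?_⟩
  · rw [MonoidHom.range_eq_map, ← Subgroup.map_commutator, hperf]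
  · intro N hN hn
    have hnorm : (N.comap f).Normal := by
      constructor
      intro x hx g
      rw [Subgroup.mem_comap, map_mul, map_mul, map_inv]
      exact ((Subgroup.mem_normalizer_iff.mp (hn ⟨g, rfl⟩)) (f x)).mp hx
    by_cases htop : N.comap f = ⊤
    · left
      apply le_antisymm hN
      rintro _ ⟨x, rfl⟩
      have : x ∈ N.comap f := by rw [htop]; exact Subgroup.mem_top x
      exact this
    · right
      have h1 := SignalizersComponents.QsBasic.normal_le_center_of_ne_top hX (N.comap f) htop
      intro y hy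
      obtain ⟨x, rfl⟩ := hN hy
      rw [Subgroup.mem_centralizer_iff]
      rintro _ ⟨z, rfl⟩
      rw [← map_mul, ← map_mul, Subgroup.mem_center_iff.mp (h1 hy) z]

end Cfsg.Agent.H774.Wf
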